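import Cfsg.Agent.KleinFourBlock.Formula
import Cfsg.Agent.Blocks.Orth.Blocks
import Cfsg.Agent.Chars.Basic.Linear

/-!
# The order of a group with a Klein four Sylow 2-subgroup and one class of involutions

With centraliser orders `4a` of the Sylow subgroup and `4ab` of an involution the order is
`12 a b³` (the case of two linear members of the principal block) or exceeds `(160/7) a b³`.
-/

set_option autoImplicit false
set_option linter.style.haveILetI false

namespace CfsgLib.CentFour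

open Cfsg CfsgLib.Blocks CfsgLib.KleinFourBlock

universe u

variable {H : Type u} [Group H] [Finite H] {P : Sylow 2 H}

/-- A member with value `e = ±1` at the involutions has degree `≡ e` modulo four. -/
theorem four_dvd_degree_sub (hP : IsKleinFour (P : Subgroup H))
    (hone : ∀ s t : H, orderOf s = 2 → orderOf t = 2 → IsConj s t) {J : H} (hJ : orderOf J = 2)
    (χ : IrrCharacter H) {e : ℤ} (he : (χ : H → ℂ) J = e) :
    (4 : ℤ) ∣ (charDegree (χ : H → ℂ) : ℤ) + 3 * e := by
  classical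
  haveI := Fintype.ofFinite H
  haveI := Fintype.ofFinite (P : Subgroup H)
  obtain ⟨m, hm⟩ := Chars.exists_nat_classInner
    (Chars.isCharacter_restrict (Chars.isCharacter_coe χ) (P : Subgroup H))
    (Chars.oneChar (P : Subgroup H))
  refine ⟨m, ?_⟩
  rw [classInner, hP.card_four] at hm
  simp only [Chars.oneChar_apply, map_one, mul_one] at hm
  rw [← Finset.add_sum_erase _ _ (Finset.mem_univ (1 : (P : Subgroup H))), OneMemClass.coe_one,
    ← Chars.coe_charDegree, Finset.sum_congr rfl (g := fun _ => (e : ℂ)) fun x hx => ?_,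
    Finset.sum_const, Finset.card_erase_of_mem (Finset.mem_univ _), Finset.card_univ,
    ← Nat.card_eq_fintype_card, hP.card_four] at hm
  · have : (charDegree (χ : H → ℂ) : ℂ) + 3 * (e : ℂ) = 4 * (m : ℂ) := by
      norm_num at hm ⊢
      linear_combination 4 * hm
    exact_mod_cast this
  · rw [← he]
    refine Chars.eq_of_isConj (Chars.isClassFunction_coe χ) (hone _ _ ?_ hJ)
    exact orderOf_eq_two_of_mem hP x.2 fun h => (Finset.mem_erase.1 hx).1 (Subtype.ext h)

/-- A real linear character which is `1` at the involutions is trivial. -/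
theorem linear_eq_one (hP : IsKleinFour (P : Subgroup H))
    (hone : ∀ s t : H, orderOf s = 2 → orderOf t = 2 → IsConj s t) {J : H} (hJ : orderOf J = 2)
    (l : H →* ℂˣ) (hlJ : l J = 1) (hreal : ∀ g, (l g) ^ 2 = 1) : l = 1 := by
  haveI : Fact (Nat.Prime 2) := ⟨Nat.prime_two⟩
  refine MonoidHom.ext fun g => ?_
  set k := (P : Subgroup H).index
  have hk : Odd k := Nat.not_even_iff_odd.1 fun h => P.not_dvd_index (even_iff_two_dvd.1 h)
  have hcard : k * 2 ^ 2 = Nat.card H := by
    rw [← (P : Subgroup H).index_mul_card, hP.card_four]; norm_num [k]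
  have h4 : (g ^ k) ^ (2 ^ 2) = 1 := by rw [← pow_mul, hcard, pow_card_eq_one']
  have h1 : l (g ^ k) = 1 := by
    by_cases h : g ^ k = 1
    · rw [h, map_one]
    · have h2 : g ^ k * g ^ k = 1 := mul_self_of_two_power hP (by
        obtain ⟨j, -, hj⟩ := (Nat.dvd_prime_pow Nat.prime_two).1 (orderOf_dvd_of_pow_eq_one h4)
        exact ⟨j, hj⟩)
      obtain ⟨c, hc⟩ := isConj_iff.1 (hone _ _ (orderOf_eq_prime (by rw [pow_two, h2]) h) hJ)
      rw [← hlJ, ← hc, map_mul, map_mul, map_inv, mul_comm, inv_mul_cancel_left]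
  obtain ⟨r, hr⟩ := hk
  rw [map_pow, hr, pow_succ, pow_mul, hreal, one_pow, one_mul] at h1
  rw [h1, MonoidHom.one_apply]

/-- The members of the principal block at the involutions, as signed degrees. -/
theorem exists_signed_degrees {M : Ideal AlgInt} (hM : IsPModular 2 M)
    (hP : IsKleinFour (P : Subgroup H))
    (hone : ∀ s t : H, orderOf s = 2 → orderOf t = 2 → IsConj s t) {J : H} (hJ : orderOf J = 2) :
    ∃ m₁ m₂ m₃ : ℤ, m₁ + m₂ + m₃ = -1 ∧ m₁ % 4 = 1 ∧ m₂ % 4 = 1 ∧ m₃ % 4 = 1 ∧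
      (m₁ = 1 → m₂ = 1 ∨ m₃ = 1) ∧ (m₂ = 1 → m₁ = 1 ∨ m₃ = 1) ∧ (m₃ = 1 → m₁ = 1 ∨ m₂ = 1) ∧
      (Nat.card H : ℚ) * (1 + 1 / (m₁ : ℚ) + 1 / m₂ + 1 / m₃) *
        (Nat.card (Subgroup.centralizer ((P : Subgroup H) : Set H)) : ℚ) ^ 2 =
      8 * (Nat.card (Subgroup.centralizer ({J} : Set H)) : ℚ) ^ 3 := by
  classical
  haveI := Fintype.ofFinite H
  haveI : Fact (Nat.Prime 2) := ⟨Nat.prime_two⟩
  haveI := isMaximal_of_isPModular hM
  set F := (principalBlock M H).toFinite.toFinset with hF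
  choose v hv using fun χ : IrrCharacter H => value_int hJ χ
  have hone_mem : Chars.oneChar H ∈ F := (Set.Finite.mem_toFinset _).2 oneChar_mem_principalBlock
  have hv1 : v (Chars.oneChar H) = 1 := by
    have := hv (Chars.oneChar H)
    rw [Chars.oneChar_apply] at this
    exact_mod_cast this.symm
  have hsq : ∑ χ ∈ F.erase (Chars.oneChar H), v χ * v χ = 3 := by
    have h := sum_block_mul hM hP hone hJ J
    rw [if_pos (dvd_of_eq hJ.symm), ← Finset.add_sum_erase _ _ hone_mem, Chars.oneChar_apply] at h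
    simp only [hv] at h
    have : ((∑ χ ∈ F.erase (Chars.oneChar H), v χ * v χ : ℤ) : ℂ) = ((3 : ℤ) : ℂ) := by
      push_cast
      linear_combination h
    exact_mod_cast this
  set T := (F.erase (Chars.oneChar H)).filter fun χ => v χ ≠ 0 with hT
  have hunit : ∀ χ ∈ T, v χ = 1 ∨ v χ = -1 := by
    intro χ hχ
    obtain ⟨hχ, h0⟩ := Finset.mem_filter.1 hχ
    have h := Finset.single_le_sum (f := fun χ => v χ * v χ) (fun i _ => mul_self_nonneg _) hχ
    rw [hsq] at h
    have h1 : v χ ≤ 1 := by nlinarith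
    have h2 : -1 ≤ v χ := by nlinarith
    omega
  have hT3 : T.card = 3 := by
    have h : ∑ χ ∈ T, v χ * v χ = 3 := by
      rw [← hsq]
      exact Finset.sum_filter_of_ne fun χ _ h => left_ne_zero_of_mul h
    rw [Finset.sum_congr rfl (g := fun _ => (1 : ℤ)) fun χ hχ => by
      rcases hunit χ hχ with e | e <;> rw [e] <;> norm_num] at h
    simp only [Finset.sum_const, nsmul_eq_mul, mul_one] at h
    exact_mod_cast h
  obtain ⟨χ₁, χ₂, χ₃, h12, h13, h23, hTeq⟩ := Finset.card_eq_three.1 hT3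
  let m : IrrCharacter H → ℤ := fun χ => v χ * charDegree (χ : H → ℂ)
  have hmod : ∀ χ ∈ T, m χ % 4 = 1 := by
    intro χ hχ
    obtain ⟨c, hc⟩ := four_dvd_degree_sub hP hone hJ χ (hv χ)
    rcases hunit χ hχ with e | e <;> simp only [m, e] at hc ⊢ <;> omega
  have hlin : ∀ χ ∈ T, m χ = 1 → ∃ ψ ∈ T, ψ ≠ χ ∧ m ψ = 1 := by
    intro χ hχ hm
    have hpos := Chars.charDegree_pos χ
    obtain ⟨hd, he⟩ : charDegree (χ : H → ℂ) = 1 ∧ v χ = 1 := by
      rcases hunit χ hχ with e | e <;> simp only [m, e] at hm <;> omega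
    obtain ⟨hχF, -⟩ := Finset.mem_filter.1 hχ
    obtain ⟨hχ1, hχF⟩ := Finset.mem_erase.1 hχF
    obtain ⟨l, hl⟩ := Chars.exists_linChar_eq χ (by rw [← Chars.coe_charDegree, hd, Nat.cast_one])
    obtain ⟨ψ, hψB, hψ⟩ := exists_conj_mem ((Set.Finite.mem_toFinset _).1 hχF)
    have hψd : charDegree (ψ : H → ℂ) = 1 := by
      have := hψ 1
      rw [← Chars.coe_charDegree, ← Chars.coe_charDegree, hd, Nat.cast_one, map_one] at this
      exact_mod_cast this
    have hψv : v ψ = 1 := by
      have := hψ J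
      rw [hv, hv, he, Int.cast_one, map_one] at this
      exact_mod_cast this
    have hlg : ∀ g, (l g : ℂ) = (χ : H → ℂ) g := fun g => by rw [← hl, Chars.linChar_apply]
    have hψ1 : ψ ≠ Chars.oneChar H := by
      intro h
      refine hχ1 ((Chars.eq_oneChar_iff χ).2 (funext fun g => ?_))
      have := congrArg (starRingEnd ℂ) (hψ g)
      rw [h, Chars.oneChar_apply, map_one, Complex.conj_conj] at this
      exact this.symm
    refine ⟨ψ, Finset.mem_filter.2 ⟨Finset.mem_erase.2 ⟨hψ1, (Set.Finite.mem_toFinset _).2 hψB⟩,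
      by rw [hψv]; norm_num⟩, fun h => hχ1 ?_, by simp only [m, hψv, hψd]; norm_num⟩
    rw [← hl, Chars.linChar_eq_oneChar_iff]
    refine linear_eq_one hP hone hJ l (Units.ext ?_) fun g => Units.ext ?_
    · rw [hlg, hv, he, Int.cast_one, Units.val_one]
    · have h1 : ‖(l g : ℂ)‖ = 1 := Complex.norm_eq_one_of_pow_eq_one (n := Nat.card H)
        (by rw [← Units.val_pow_eq_pow_val, ← map_pow, pow_card_eq_one', map_one, Units.val_one])
        Nat.card_pos.ne'
      have h2 := hψ g
      rw [h, ← hlg] at h2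
      rw [Units.val_pow_eq_pow_val, Units.val_one, pow_two]
      calc (l g : ℂ) * (l g : ℂ) = (l g : ℂ) * starRingEnd ℂ (l g : ℂ) := by rw [← h2]
        _ = 1 := by rw [Complex.mul_conj', h1]; norm_num
  have hmem : ∀ χ, χ = χ₁ ∨ χ = χ₂ ∨ χ = χ₃ → χ ∈ T := fun χ h => by
    rw [hTeq]; simpa using h
  have hother : ∀ χ, χ ∈ T → χ = χ₁ ∨ χ = χ₂ ∨ χ = χ₃ := fun χ h => by
    rw [hTeq] at h; simpa using h
  refine ⟨m χ₁, m χ₂, m χ₃, ?_, hmod _ (hmem _ (by simp)), hmod _ (hmem _ (by simp)),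
    hmod _ (hmem _ (by simp)), ?_, ?_, ?_, ?_⟩
  · have h := sum_block_mul hM hP hone hJ 1
    rw [if_neg (by rw [orderOf_one]; norm_num), ← Finset.add_sum_erase _ _ hone_mem,
      Chars.oneChar_apply, Chars.oneChar_apply, one_mul,
      ← Finset.sum_filter_of_ne (p := fun χ => v χ ≠ 0) (fun χ _ h e => h (by rw [hv, e]; simp)),
      ← hT, hTeq, Finset.sum_insert (by simp [h12, h13]), Finset.sum_pair h23] at h
    simp only [hv, ← Chars.coe_charDegree] at h
    have : ((m χ₁ + m χ₂ + m χ₃ : ℤ) : ℂ) = ((-1 : ℤ) : ℂ) := by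
      simp only [m]; push_cast; linear_combination h
    exact_mod_cast this
  · intro h1
    obtain ⟨ψ, hψ, hne, h⟩ := hlin _ (hmem _ (by simp)) h1
    rcases hother ψ hψ with rfl | rfl | rfl
    exacts [absurd rfl hne, Or.inl h, Or.inr h]
  · intro h1
    obtain ⟨ψ, hψ, hne, h⟩ := hlin _ (hmem _ (by simp)) h1
    rcases hother ψ hψ with rfl | rfl | rfl
    exacts [Or.inl h, absurd rfl hne, Or.inr h]
  · intro h1
    obtain ⟨ψ, hψ, hne, h⟩ := hlin _ (hmem _ (by simp)) h1
    rcases hother ψ hψ with rfl | rfl | rfl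
    exacts [Or.inl h, Or.inr h, absurd rfl hne]
  · have h := card_mul_sum_cube hM hP hone hJ
    rw [← Finset.add_sum_erase _ _ hone_mem, Chars.oneChar_apply, Chars.oneChar_apply,
      ← Finset.sum_filter_of_ne (p := fun χ => v χ ≠ 0) (fun χ _ h e => h (by rw [hv, e]; simp)),
      ← hT, hTeq, Finset.sum_insert (by simp [h12, h13]), Finset.sum_pair h23] at h
    simp only [hv, ← Chars.coe_charDegree] at h
    have hrec : ∀ χ ∈ T, (1 : ℂ) / (m χ : ℂ) = (v χ : ℂ) ^ 3 / (charDegree (χ : H → ℂ) : ℂ) := by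
      intro χ hχ
      have := (Chars.charDegree_pos χ).ne'
      rcases hunit χ hχ with e | e <;> simp only [m, e] <;> push_cast <;> field_simp
    rw [← hrec _ (hmem _ (by simp)), ← hrec _ (hmem _ (by simp)), ← hrec _ (hmem _ (by simp))] at h
    have h' : (((Nat.card H : ℚ) * (1 + 1 / (m χ₁ : ℚ) + 1 / m χ₂ + 1 / m χ₃) *
        (Nat.card (Subgroup.centralizer ((P : Subgroup H) : Set H)) : ℚ) ^ 2 : ℚ) : ℂ) =
      ((8 * (Nat.card (Subgroup.centralizer ({J} : Set H)) : ℚ) ^ 3 : ℚ) : ℂ) := by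
      push_cast
      linear_combination h
    exact_mod_cast h'

/-- The order is `12 a b³` or exceeds `(160/7) a b³`. -/
theorem klein_card (hP : IsKleinFour (P : Subgroup H))
    (hone : ∀ s t : H, orderOf s = 2 → orderOf t = 2 → IsConj s t) {J : H} (hJ : orderOf J = 2)
    {a b : ℕ} (hCP : Nat.card (Subgroup.centralizer ((P : Subgroup H) : Set H)) = 4 * a)
    (hCJ : Nat.card (Subgroup.centralizer ({J} : Set H)) = 4 * a * b) :
    Nat.card H = 12 * a * b ^ 3 ∨ 160 * a * b ^ 3 < 7 * Nat.card H := by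
  obtain ⟨M, hM⟩ := exists_isPModular 2 Nat.prime_two
  obtain ⟨m₁, m₂, m₃, hsum, c₁, c₂, c₃, l₁, l₂, l₃, h⟩ := exists_signed_degrees hM hP hone hJ
  have ha : (0 : ℚ) < a := by
    have := Nat.card_pos (α := Subgroup.centralizer ((P : Subgroup H) : Set H))
    exact_mod_cast (show 0 < a by omega)
  have hb : (0 : ℚ) < b := by
    have := Nat.card_pos (α := Subgroup.centralizer ({J} : Set H))
    exact_mod_cast Nat.pos_of_mul_pos_left (hCJ ▸ this)
  rw [hCP, hCJ] at h
  push_cast at h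
  set S : ℚ := 1 + 1 / (m₁ : ℚ) + 1 / m₂ + 1 / m₃ with hS
  have hmain : (Nat.card H : ℚ) * S = 32 * a * b ^ 3 := by
    refine mul_right_cancel₀ (b := (4 * a : ℚ) ^ 2) (by positivity) ?_
    linear_combination h
  by_cases hlin : m₁ = 1 ∨ m₂ = 1 ∨ m₃ = 1
  · left
    have : S = 8 / 3 := by
      rcases hlin with e | e | e
      · rcases l₁ e with e' | e'
        · rw [hS, e, e', show m₃ = -3 by omega]; norm_num
        · rw [hS, e, e', show m₂ = -3 by omega]; norm_num
      · rcases l₂ e with e' | e'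
        · rw [hS, e, e', show m₃ = -3 by omega]; norm_num
        · rw [hS, e, e', show m₁ = -3 by omega]; norm_num
      · rcases l₃ e with e' | e'
        · rw [hS, e, e', show m₂ = -3 by omega]; norm_num
        · rw [hS, e, e', show m₁ = -3 by omega]; norm_num
    rw [this] at hmain
    have : ((Nat.card H : ℕ) : ℚ) = ((12 * a * b ^ 3 : ℕ) : ℚ) := by
      push_cast; linarith
    exact_mod_cast this
  · right
    push Not at hlin
    obtain ⟨n₁, n₂, n₃⟩ := hlin
    have bd : ∀ m : ℤ, m % 4 = 1 → m ≠ 1 → 1 / (m : ℚ) ≤ 1 / 5 := fun m hm hm1 => by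
      rcases (show m < 0 ∨ 5 ≤ m by omega) with h' | h'
      · have : (m : ℚ) < 0 := by exact_mod_cast h'
        have := one_div_neg.2 this
        linarith
      · exact one_div_le_one_div_of_le (by norm_num) (by exact_mod_cast h')
    have neg : ∀ m : ℤ, m < 0 → 1 / (m : ℚ) < 0 := fun m hm => one_div_neg.2 (by exact_mod_cast hm)
    have hlt : S < 7 / 5 := by
      have b₁ := bd _ c₁ n₁
      have b₂ := bd _ c₂ n₂
      have b₃ := bd _ c₃ n₃
      rcases (show m₁ < 0 ∨ m₂ < 0 ∨ m₃ < 0 by omega) with e | e | e <;>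
        · have := neg _ e
          rw [hS]
          linarith
    have hH : (0 : ℚ) < Nat.card H := by exact_mod_cast Nat.card_pos
    have : ((160 * a * b ^ 3 : ℕ) : ℚ) < ((7 * Nat.card H : ℕ) : ℚ) := by
      push_cast
      nlinarith [mul_lt_mul_of_pos_left hlt hH]
    exact_mod_cast this

end CfsgLib.CentFour
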