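import Cfsg.Agent.CentFour.CharData
import Cfsg.Agent.CentFour.Sub
import Cfsg.Agent.CentFour.Arith
import Cfsg.Agent.CentralizerD8.Simple
import Cfsg.Agent.S0984
import Cfsg.Agent.S0495
import Cfsg.Agent.S0497

/-!
# The simple groups with a self-centralising element of order four
-/

set_option autoImplicit false
set_option linter.style.haveILetI false

namespace CfsgLib.CentFour

open CfsgLib.FusionTwo

universe u

variable {G : Type u} [Group G] [Finite G] {w τ : G}

theorem odd_side {A : Subgroup G} (hA : A ≤ core w) : Odd (Nat.card A) := by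
  haveI : Fact (Nat.Prime 2) := ⟨Nat.prime_two⟩
  refine Nat.not_even_iff_odd.1 fun he => ?_
  exact ZStar.not_dvd_card_coreC 2 (Subgroup.zpowers (w * w))
    ((even_iff_two_dvd.1 he).trans (Subgroup.card_dvd_of_le hA))

theorem arithData [IsSimpleGroup G] (hG : ¬ IsCyclic G) (h : Hyp w τ) :
    ∃ (x : ℕ) (δ u v : ℤ),
      ArithData (Nat.card G) (Nat.card (sideA w τ)) (Nat.card (sideB w τ)) x δ u v := by
  haveI : Fact (Nat.Prime 2) := ⟨Nat.prime_two⟩
  obtain ⟨x, δ, u, v, c⟩ := exists_charFacts hG h
  obtain ⟨S, d⟩ := h.sylow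
  have h8 : Nat.card (S : Subgroup G) = 8 := by rw [d.card]; norm_num
  have h16 : ¬ 16 ∣ Nat.card G := fun hd => by
    have h1 := S.card_eq_multiplicity
    rw [h8, show (8 : ℕ) = 2 ^ 3 from rfl] at h1
    have h2 := Nat.pow_right_injective le_rfl h1
    rw [show (16 : ℕ) = 2 ^ 4 from rfl, Nat.prime_two.pow_dvd_iff_le_factorization
      Nat.card_pos.ne'] at hd
    omega
  exact ⟨x, δ, u, v, h8 ▸ Subgroup.card_subgroup_dvd_card _, h16, odd_side inf_le_left,
    odd_side inf_le_left, c.sign, c.one_lt, c.x_mod, c.u_mod, c.v_mod, c.u_ne, c.v_ne, c.degrees,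
    c.order, c.count, c.bound⟩

/-- Both parts of the core cannot be non-trivial. -/
theorem not_both [IsSimpleGroup G] (hG : ¬ IsCyclic G) (h : Hyp w τ)
    (ha : 1 < Nat.card (sideA w τ))
    (hab : Nat.card (sideA w τ) ≤ Nat.card (sideB w τ)) : False := by
  classical
  haveI : Fact (Nat.Prime 2) := ⟨Nat.prime_two⟩
  obtain ⟨x, δ, u, v, D⟩ := arithData hG h
  set A := sideA w τ with hA
  have hAne : A ≠ ⊥ := fun e => by rw [e, Subgroup.card_bot] at ha; omega
  set H := Subgroup.centralizer (A : Set G) with hH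
  obtain ⟨U, hU, -, hiff⟩ := h.exists_four
  have hUH : U ≤ H := h.four_le hiff
  obtain ⟨⟨k, hk, hkt⟩, k', hk', hkt'⟩ := h.fused
  set J : H := ⟨w * w, h.t_mem⟩ with hJ
  have hJo : orderOf J = 2 := by rw [← Subgroup.orderOf_coe]; exact h.ot
  -- every involution of the four group is conjugate to `J`
  have hconjU : ∀ z : H, (z : G) ∈ U → z ≠ 1 → IsConj J z := by
    intro z hz hz1
    rcases (hiff z).1 hz with e | e | e | e
    · exact absurd (Subtype.ext e) hz1
    · rw [show z = J from Subtype.ext e]
    · exact isConj_iff.2 ⟨⟨k, hk⟩, Subtype.ext (hkt.trans e.symm)⟩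
    · exact isConj_iff.2 ⟨⟨k', hk'⟩, Subtype.ext (hkt'.trans e.symm)⟩
  have hU'card : Nat.card (U.subgroupOf H) = 4 := by
    rw [Nat.card_congr (Subgroup.subgroupOfEquivOfLe hUH).toEquiv, hU.card_four]
  obtain ⟨P, hP⟩ := (IsPGroup.of_card (p := 2) (n := 2) (G := U.subgroupOf H) (by
    rw [hU'card]; norm_num)).exists_le_sylow
  have hCJ : Nat.card (Subgroup.centralizer ({J} : Set H)) =
      4 * Nat.card A * Nat.card (sideB w τ) := by
    rw [mul_assoc, ← h.card_cent_inf hAne]
    refine Nat.card_congr ⟨fun a => ⟨((a : H) : G), (a : H).2, ?_⟩, fun a => ⟨⟨a.1, a.2.1⟩, ?_⟩,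
      fun a => rfl, fun a => rfl⟩
    · exact Subgroup.mem_centralizer_singleton_iff.2
        (congrArg Subtype.val (Subgroup.mem_centralizer_singleton_iff.1 a.2))
    · exact Subgroup.mem_centralizer_singleton_iff.2
        (Subtype.ext (Subgroup.mem_centralizer_singleton_iff.1 a.2.2))
  -- the four group is a Sylow 2-subgroup of `H`
  have hPU : (P : Subgroup H) = U.subgroupOf H := by
    refine (Subgroup.eq_of_le_of_card_ge hP ?_).symm
    rw [hU'card]
    haveI : Nontrivial (P : Subgroup H) := ⟨⟨J, hP (Subgroup.mem_subgroupOf.2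
      ((hiff _).2 (Or.inr (Or.inl rfl))))⟩, 1, fun e => by
        have h1 : J = 1 := congrArg Subtype.val e
        rw [h1, orderOf_one] at hJo
        omega⟩
    haveI := IsPGroup.center_nontrivial P.isPGroup'
    obtain ⟨zc, hzc⟩ := exists_prime_orderOf_dvd_card' (G := Subgroup.center (P : Subgroup H)) 2 (by
      obtain ⟨j, hj⟩ := IsPGroup.iff_card.1 (P.isPGroup'.to_subgroup (Subgroup.center (P : Subgroup H)))
      rw [hj]
      refine dvd_pow_self 2 fun hj0 => ?_
      rw [hj0, pow_zero] at hj
      exact absurd hj (Finite.one_lt_card.ne'))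
    set z : H := ((zc : (P : Subgroup H)) : H) with hz
    have hzo : orderOf z = 2 := by rw [hz, Subgroup.orderOf_coe, Subgroup.orderOf_coe]; exact hzc
    have hcomm : ∀ p ∈ (P : Subgroup H), Commute z p := fun p hp =>
      (congrArg Subtype.val (Subgroup.mem_center_iff.1 zc.2 ⟨p, hp⟩)).symm
    have hzU : (z : G) ∈ U := by
      have hcu : ∀ g ∈ U, Commute (z : G) g := fun g hg =>
        congrArg Subtype.val (hcomm ⟨g, hUH hg⟩ (hP (Subgroup.mem_subgroupOf.2 hg))).eq
      have hzt : (z : G) ∈ Subgroup.centralizer ({w * w, τ} : Set G) := by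
        rw [Subgroup.mem_centralizer_iff]
        intro y hy
        rcases hy with hy | hy <;> rw [hy]
        · exact (hcu _ ((hiff _).2 (Or.inr (Or.inl rfl)))).eq.symm
        · exact (hcu _ ((hiff _).2 (Or.inr (Or.inr (Or.inl rfl))))).eq.symm
      obtain ⟨o, ho, i, e⟩ := h.exists_decomp
        ((Subgroup.mem_centralizer_iff.1 hzt) (w * w) (Set.mem_insert _ _))
      have hzz : (z : G) * z = 1 := by
        rw [← Subgroup.coe_mul, ← pow_two, ← hzo, pow_orderOf_eq_one, Subgroup.coe_one]
      -- the odd part of `z` is trivial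
      by_contra hzU
      have hsup : Nat.card U < Nat.card (U ⊔ Subgroup.zpowers (z : G) : Subgroup G) := by
        refine lt_of_le_of_ne (Subgroup.card_le_of_le le_sup_left) fun e => hzU ?_
        rw [Subgroup.eq_of_le_of_card_ge le_sup_left e.ge]
        exact (le_sup_right : Subgroup.zpowers (z : G) ≤ _) (Subgroup.mem_zpowers _)
      have hle : U ⊔ Subgroup.zpowers (z : G) ≤ Subgroup.centralizer ({w * w, τ} : Set G) := by
        refine sup_le (fun g hg => ?_) (Subgroup.zpowers_le.2 hzt)
        rw [Subgroup.mem_centralizer_iff]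
        intro y hy
        rcases (hiff g).1 hg with e | e | e | e <;> rcases hy with hy | hy <;> rw [e, hy]
        exacts [by simp, by simp, h.commute_tτ.eq.symm, h.commute_tτ.eq,
          ((Commute.refl (w * w)).mul_right h.commute_tτ).eq,
          (h.commute_tτ.symm.mul_right (Commute.refl τ)).eq]
      obtain ⟨j, hj⟩ := IsPGroup.iff_card.1
        (show IsPGroup 2 ↥(U ⊔ Subgroup.zpowers (z : G) : Subgroup G) from
          (P.isPGroup'.map H.subtype).to_le (sup_le
            (fun g hg => ⟨⟨g, hUH hg⟩, hP (Subgroup.mem_subgroupOf.2 hg), rfl⟩)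
            (Subgroup.zpowers_le.2 ⟨z, (zc : (P : Subgroup H)).2, rfl⟩)))
      have hdiv := Subgroup.card_dvd_of_le hle
      rw [hj, h.card_cent_four, show (4 : ℕ) = 2 ^ 2 from rfl] at hdiv
      rw [hj, hU.card_four] at hsup
      have h3 : 2 ^ j ∣ 2 ^ 2 :=
        (((Nat.coprime_two_left.2 (odd_side inf_le_left)).pow_left j).dvd_of_dvd_mul_right hdiv)
      have := Nat.le_of_dvd (by norm_num) h3
      omega
    obtain ⟨c, hc⟩ := isConj_iff.1 (hconjU z hzU (fun e => by
      rw [e, orderOf_one] at hzo; omega))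
    have hle : (P : Subgroup H).map (MulAut.conj c⁻¹).toMonoidHom ≤
        Subgroup.centralizer ({J} : Set H) := by
      rintro _ ⟨p, hp, rfl⟩
      rw [Subgroup.mem_centralizer_singleton_iff]
      have h1 := (Commute.conj_iff c⁻¹).2 (hcomm p hp)
      rw [← hc, show c⁻¹ * (c * J * c⁻¹) * c⁻¹⁻¹ = J by group] at h1
      simpa using h1.eq.symm
    have hdiv := Subgroup.card_dvd_of_le hle
    rw [Subgroup.card_map_of_injective (MulAut.conj c⁻¹).injective, hCJ, mul_assoc] at hdiv
    obtain ⟨j, hj⟩ := IsPGroup.iff_card.1 P.isPGroup'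
    rw [hj] at hdiv ⊢
    refine Nat.le_of_dvd (by norm_num) (Nat.Coprime.dvd_of_dvd_mul_right ?_ hdiv)
    exact (Nat.coprime_two_left.2 ((odd_side inf_le_left).mul (odd_side inf_le_left))).pow_left j
  have hPk : IsKleinFour (P : Subgroup H) := by
    rw [hPU]
    haveI := hU
    exact { card_four := hU'card
            exponent_two := by
              rw [Monoid.exponent_eq_of_mulEquiv (Subgroup.subgroupOfEquivOfLe hUH)]
              exact hU.exponent_two }
  have hone : ∀ s t : H, orderOf s = 2 → orderOf t = 2 → IsConj s t := by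
    have key : ∀ s : H, orderOf s = 2 → IsConj J s := by
      intro s hs
      obtain ⟨R, hR⟩ := (IsPGroup.of_card (p := 2) (n := 1) (G := Subgroup.zpowers s)
        (by rw [Nat.card_zpowers, hs, pow_one])).exists_le_sylow
      obtain ⟨c, hc⟩ := MulAction.exists_smul_eq H R P
      have hmem : c * s * c⁻¹ ∈ (P : Subgroup H) := by
        rw [← hc]; exact ⟨s, hR (Subgroup.mem_zpowers s), rfl⟩
      have h1 := hconjU _ (Subgroup.mem_subgroupOf.1 (hPU ▸ hmem)) (fun e => by
        rw [conj_eq_one_iff] at e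
        rw [e, orderOf_one] at hs
        omega)
      exact h1.trans (isConj_iff.2 ⟨c, rfl⟩).symm
    exact fun s t hs ht => (key s hs).symm.trans (key t ht)
  have hCP : Nat.card (Subgroup.centralizer ((P : Subgroup H) : Set H)) = 4 * Nat.card A := by
    rw [← h.card_cent_four]
    have hle : Subgroup.centralizer ({w * w, τ} : Set G) ≤ H := fun g hg => by
      obtain ⟨o, ho, i, e⟩ := h.exists_decomp
        (Subgroup.mem_centralizer_iff.1 hg (w * w) (Set.mem_insert _ _))
      rw [hH, Subgroup.mem_centralizer_iff]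
      intro a haA
      have hUC : U ≤ Subgroup.centralizer ({w * w, τ} : Set G) := fun g hg => by
        rw [Subgroup.mem_centralizer_iff]
        intro y hy
        rcases (hiff g).1 hg with e | e | e | e <;> rcases hy with hy | hy <;> rw [e, hy]
        exacts [by simp, by simp, h.commute_tτ.eq.symm, h.commute_tτ.eq,
          ((Commute.refl (w * w)).mul_right h.commute_tτ).eq,
          (h.commute_tτ.symm.mul_right (Commute.refl τ)).eq]
      have hAC : A ≤ Subgroup.centralizer ({w * w, τ} : Set G) := fun x hx => by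
        rw [Subgroup.mem_centralizer_iff]
        intro y hy
        rcases hy with hy | hy <;> rw [hy]
        · exact (Hyp.commute_of_mem_core (Hyp.mem_sideA_iff.1 hx).1).eq
        · exact (Hyp.mem_sideA_iff.1 hx).2.eq
      -- the centraliser of the four group is the product
      have hcard := h.card_cent_four
      have hsup : A ⊔ U = Subgroup.centralizer ({w * w, τ} : Set G) := by
        refine Subgroup.eq_of_le_of_card_ge (sup_le hAC hUC) ?_
        rw [hcard]
        refine Nat.le_of_dvd Nat.card_pos (Nat.Coprime.mul_dvd_of_dvd_of_dvd ?_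
          (hU.card_four ▸ Subgroup.card_dvd_of_le le_sup_right) (Subgroup.card_dvd_of_le le_sup_left))
        rw [show (4 : ℕ) = 2 ^ 2 from rfl]
        exact (Nat.coprime_two_left.2 (odd_side inf_le_left)).pow_left 2
      have hmem : A ⊔ U ≤ Subgroup.centralizer (A : Set G) :=
        sup_le (fun x hx => h.core_le (Hyp.mem_sideA_iff.1 hx).1) hUH
      exact Subgroup.mem_centralizer_iff.1 (hmem (hsup ▸ hg)) a haA
    rw [hPU]
    refine Nat.card_congr ⟨fun a => ⟨((a : H) : G), ?_⟩, fun a => ⟨⟨a.1, hle a.2⟩, ?_⟩,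
      fun a => rfl, fun a => rfl⟩
    · rw [Subgroup.mem_centralizer_iff]
      intro y hy
      have hyU : y ∈ U := by
        rcases hy with hy | hy <;> rw [hy]
        · exact (hiff _).2 (Or.inr (Or.inl rfl))
        · exact (hiff _).2 (Or.inr (Or.inr (Or.inl rfl)))
      exact congrArg Subtype.val
        (Subgroup.mem_centralizer_iff.1 a.2 ⟨y, hUH hyU⟩ (Subgroup.mem_subgroupOf.2 hyU))
    · rw [Subgroup.mem_centralizer_iff]
      intro y hy
      refine Subtype.ext ?_
      have hct := Subgroup.mem_centralizer_iff.1 a.2 (w * w) (Set.mem_insert _ _)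
      have hcτ := Subgroup.mem_centralizer_iff.1 a.2 τ (Set.mem_insert_of_mem _ rfl)
      show (y : G) * a = a * y
      rcases (hiff y).1 (Subgroup.mem_subgroupOf.1 hy) with e | e | e | e <;> rw [e]
      · simp
      · exact hct
      · exact hcτ
      · exact (Commute.mul_left hct hcτ).eq
  have hh := klein_card hPk hone hJo hCP hCJ
  -- the extension by `w`
  let K : Subgroup G :=
    { carrier := {g | (∀ a ∈ A, g * a * g⁻¹ = a) ∨ (∀ a ∈ A, g * a * g⁻¹ = a⁻¹)}
      one_mem' := Or.inl fun a _ => by group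
      mul_mem' := by
        intro g₁ g₂ h₁ h₂
        have e : ∀ a : G, g₁ * g₂ * a * (g₁ * g₂)⁻¹ = g₁ * (g₂ * a * g₂⁻¹) * g₁⁻¹ := fun a => by group
        rcases h₁ with h₁ | h₁ <;> rcases h₂ with h₂ | h₂
        · exact Or.inl fun a ha => by rw [e, h₂ a ha, h₁ a ha]
        · exact Or.inr fun a ha => by rw [e, h₂ a ha, h₁ _ (inv_mem ha)]
        · exact Or.inr fun a ha => by rw [e, h₂ a ha, h₁ a ha]
        · exact Or.inl fun a ha => by rw [e, h₂ a ha, h₁ _ (inv_mem ha), inv_inv]
      inv_mem' := by
        intro g hg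
        rcases hg with hg | hg
        · exact Or.inl fun a ha => by
            conv_lhs => rw [← hg a ha]
            group
        · exact Or.inr fun a ha => by
            have h1 := hg _ (inv_mem ha)
            rw [inv_inv] at h1
            conv_lhs => rw [← h1]
            group }
  have hmemH : ∀ g, g ∈ H ↔ ∀ a ∈ A, g * a * g⁻¹ = a := fun g => by
    rw [hH, Subgroup.mem_centralizer_iff]
    exact forall₂_congr fun a _ => ⟨fun e => mul_inv_eq_iff_eq_mul.2 e.symm,
      fun e => (mul_inv_eq_iff_eq_mul.1 e).symm⟩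
  have hinv : ∀ a ∈ A, w * a * w⁻¹ = a⁻¹ := fun a ha => h.inverts (Hyp.mem_sideA_iff.1 ha).1
  have hHK : H ≤ K := fun g hg => Or.inl ((hmemH g).1 hg)
  have hrel : H.relIndex K = 2 := by
    rw [Subgroup.relIndex, Subgroup.index_eq_two_iff]
    refine ⟨⟨w, Or.inr hinv⟩, fun b => ?_⟩
    simp only [Subgroup.mem_subgroupOf, Subgroup.coe_mul]
    by_cases hb : (b : G) ∈ H
    · exact Or.inr ⟨hb, fun hbw => h.w_not_mem hAne (by
        have := mul_mem (inv_mem hb) hbw
        rwa [inv_mul_cancel_left] at this)⟩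
    · refine Or.inl ⟨(hmemH _).2 fun a ha => ?_, hb⟩
      rcases b.2 with hb' | hb'
      · exact absurd ((hmemH _).2 hb') hb
      · rw [show (b : G) * w * a * ((b : G) * w)⁻¹ = (b : G) * (w * a * w⁻¹) * (b : G)⁻¹ by group,
          hinv a ha, hb' _ (inv_mem ha), inv_inv]
  have hKcard : Nat.card K = 2 * Nat.card H := by
    rw [← Subgroup.relIndex_bot_left, ← Subgroup.relIndex_mul_relIndex ⊥ H K bot_le hHK, hrel,
      Subgroup.relIndex_bot_left, mul_comm]
  have hcore : K.normalCore = ⊥ := (eq_bot_or_eq_top (Subgroup.normalCore_normal K)).resolve_right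
    fun e => by
      have hK : ∀ g : G, g ∈ K := fun g => Subgroup.normalCore_le K (e ▸ Subgroup.mem_top g)
      rcases eq_bot_or_eq_top (⟨fun a ha g => by
        rcases hK g with hg | hg
        · rw [hg a ha]; exact ha
        · rw [hg a ha]; exact inv_mem ha⟩ : A.Normal) with e' | e'
      · exact hAne e'
      · exact commutative_false hG fun p q => (h.core_comm
          (Hyp.mem_sideA_iff.1 (e' ▸ Subgroup.mem_top p : p ∈ A)).1
          (Hyp.mem_sideA_iff.1 (e' ▸ Subgroup.mem_top q : q ∈ A)).1).eq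
  have hdvd : Nat.card G ∣ K.index.factorial := by
    have hinj : Function.Injective (MulAction.toPermHom G (G ⧸ K)) := by
      rw [← MonoidHom.ker_eq_bot_iff, ← Subgroup.normalCore_eq_ker, hcore]
    have h1 := Subgroup.card_dvd_of_injective _ hinj
    rwa [Nat.card_perm] at h1
  refine arith_both (h := Nat.card H) (n := K.index) D ha hab hh ?_ hdvd
  rw [← hKcard, Subgroup.card_mul_index]

/-- The classification in the remaining configuration. -/
theorem of_hyp [IsSimpleGroup G] (hG : ¬ IsCyclic G) (h : Hyp w τ) :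
    Nat.card G = 2520 ∨ Nat.card G = 168 ∨ Nat.card G = 360 := by
  have hA0 : 0 < Nat.card (sideA w τ) := Nat.card_pos
  have hB0 : 0 < Nat.card (sideB w τ) := Nat.card_pos
  have hsw : Nat.card (sideB w (w * τ)) = Nat.card (sideA w τ) := by rw [swap_sideB h]
  by_cases ha : Nat.card (sideA w τ) = 1 <;> by_cases hb : Nat.card (sideB w τ) = 1
  · right
    obtain ⟨S, d⟩ := h.sylow
    have hD : CentralizerD8.Data (w * w) w τ :=
      { ne_one := fun e => by have := h.ot; rw [e, orderOf_one] at this; omega
        sq := h.tt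
        a_sq := rfl
        b_sq := h.ττ
        b_inv := d.rel
        b_not := d.y_not_mem
        b_mem := Subgroup.mem_centralizer_singleton_iff.2 h.commute_tτ.eq.symm
        card_C := by rw [h.card_cent, h.card_core, ha, hb] }
    exact hD.card_eq_of_no_index_two (no_index_two hG)
  · left
    obtain ⟨x, δ, u, v, D⟩ := arithData hG h.swap
    rw [hsw, ha] at D
    refine arith_one D ?_
    show 1 < Nat.card (sideB w τ)
    omega
  · left
    obtain ⟨x, δ, u, v, D⟩ := arithData hG h
    rw [hb] at D
    exact arith_one D (by omega)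
  · exfalso
    rcases le_total (Nat.card (sideA w τ)) (Nat.card (sideB w τ)) with hle | hle
    · exact not_both hG h (by omega) hle
    · refine not_both hG h.swap ?_ (hsw.symm ▸ hle)
      show 1 < Nat.card (sideB w τ)
      omega

end CfsgLib.CentFour
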