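import Cfsg.Agent.CentFour.Basic
import Cfsg.Agent.FusionTwo.QWInvolution
import Cfsg.Agent.S3331
import Cfsg.Agent.S3278
import Cfsg.Agent.S3224
import Cfsg.Agent.S0112
import Cfsg.Agent.S0115
import Cfsg.Agent.S4399
import Cfsg.Agent.S0201
import Cfsg.Agent.S0219
import Cfsg.Agent.Eq.Def_CaseTheorems

/-!
# Reductions for a simple group with a centraliser of order at most four
-/

set_option autoImplicit false

namespace CfsgLib.CentFour

open CfsgLib.FusionTwo CfsgLib.FusionTwo.DihFusion

universe u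

variable {G : Type u} [Group G] [Finite G] [IsSimpleGroup G]

omit [IsSimpleGroup G] in
theorem mem_cent_self (w : G) : w ∈ Subgroup.centralizer ({w} : Set G) :=
  Subgroup.mem_centralizer_singleton_iff.2 rfl

omit [IsSimpleGroup G] in
theorem orderOf_dvd_cent (w : G) :
    orderOf w ∣ Nat.card (Subgroup.centralizer ({w} : Set G)) := by
  rw [← Nat.card_zpowers]
  exact Subgroup.card_dvd_of_le (Subgroup.zpowers_le.2 (mem_cent_self w))

omit [IsSimpleGroup G] in
theorem isConj_central_card {S : Sylow 2 G} {w e : G} (hwe : IsConj w e)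
    (hec : ∀ a ∈ (S : Subgroup G), e * a = a * e) :
    Nat.card (S : Subgroup G) ≤ Nat.card (Subgroup.centralizer ({w} : Set G)) := by
  obtain ⟨g, hg⟩ := isConj_iff.1 hwe
  subst hg
  have : ∀ a ∈ (S : Subgroup G), g⁻¹ * a * g ∈ Subgroup.centralizer ({w} : Set G) := fun a ha => by
    rw [Subgroup.mem_centralizer_singleton_iff]
    calc g⁻¹ * a * g * w = g⁻¹ * (a * (g * w * g⁻¹)) * g := by group
      _ = g⁻¹ * (g * w * g⁻¹ * a) * g := by rw [hec a ha]
      _ = w * (g⁻¹ * a * g) := by group
  refine Nat.card_le_card_of_injective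
    (fun a : (S : Subgroup G) => (⟨g⁻¹ * a * g, this a a.2⟩ : Subgroup.centralizer ({w} : Set G))) ?_
  intro a b h
  exact Subtype.ext (mul_left_cancel (mul_right_cancel (congrArg Subtype.val h)))

/-- The centraliser of an element has order at least three. -/
theorem three_le_cent (hG : ¬ IsCyclic G) (w : G) :
    3 ≤ Nat.card (Subgroup.centralizer ({w} : Set G)) := by
  by_contra hlt
  have hpos : 0 < Nat.card (Subgroup.centralizer ({w} : Set G)) := Nat.card_pos
  have hd := orderOf_dvd_cent w
  have hle : orderOf w ≤ 2 := le_trans (Nat.le_of_dvd hpos hd) (by omega)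
  have hw0 : 0 < orderOf w := orderOf_pos w
  rcases (show orderOf w = 1 ∨ orderOf w = 2 by omega) with h1 | h2
  · -- the centraliser of the identity
    rw [orderOf_eq_one_iff.1 h1] at hlt
    have htop : Subgroup.centralizer ({1} : Set G) = ⊤ := by
      ext g; simp [Subgroup.mem_centralizer_singleton_iff]
    rw [htop, Nat.card_congr Subgroup.topEquiv.toEquiv] at hlt
    refine hG ?_
    rcases (show Nat.card G = 1 ∨ Nat.card G = 2 by
      have : 0 < Nat.card G := Nat.card_pos
      omega) with h | h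
    · haveI := (Nat.card_eq_one_iff_unique.1 h).1
      exact isCyclic_of_subsingleton
    · haveI : Fact (Nat.Prime 2) := ⟨Nat.prime_two⟩
      exact isCyclic_of_prime_card h
  · have hc2 : Nat.card (Subgroup.centralizer ({w} : Set G)) = 2 := by
      have := Nat.le_of_dvd hpos hd
      omega
    haveI : Fact (Nat.Prime 2) := ⟨Nat.prime_two⟩
    obtain ⟨S, hS⟩ := (IsPGroup.of_card (p := 2) (n := 1) (G := Subgroup.zpowers w)
      (by rw [Nat.card_zpowers, h2, pow_one])).exists_le_sylow
    have hwS : w ∈ (S : Subgroup G) := hS (Subgroup.mem_zpowers w)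
    haveI : Nontrivial (S : Subgroup G) := ⟨⟨w, hwS⟩, 1, fun e => by
      have := congrArg Subtype.val e
      simp only [OneMemClass.coe_one] at this
      rw [this, orderOf_one] at h2
      omega⟩
    haveI := IsPGroup.center_nontrivial S.isPGroup'
    obtain ⟨⟨z, hzc⟩, hz1⟩ := exists_ne (1 : Subgroup.center (S : Subgroup G))
    have hzw : Commute (z : G) w := congrArg Subtype.val (Subgroup.mem_center_iff.1 hzc ⟨w, hwS⟩).symm
    -- the central element is `w`
    have hCz : Subgroup.centralizer ({w} : Set G) = Subgroup.zpowers w :=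
      (Subgroup.eq_of_le_of_card_ge (Subgroup.zpowers_le.2 (mem_cent_self w))
        (by rw [hc2, Nat.card_zpowers, h2])).symm
    have hzmem : (z : G) ∈ Subgroup.zpowers w :=
      hCz ▸ Subgroup.mem_centralizer_singleton_iff.2 hzw.eq
    have hzeq : (z : G) = w := by
      obtain ⟨i, hi⟩ := Subgroup.mem_zpowers_iff.1 hzmem
      have hw2 : w ^ (2 : ℤ) = 1 :=
        orderOf_dvd_iff_zpow_eq_one.1 (by rw [h2]; norm_num)
      rcases Int.even_or_odd' i with ⟨j, rfl | rfl⟩
      · exfalso
        refine hz1 (Subtype.ext (Subtype.ext ?_))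
        rw [zpow_mul, hw2, one_zpow] at hi
        exact hi.symm
      · rw [zpow_add_one, zpow_mul, hw2, one_zpow, one_mul] at hi
        exact hi.symm
    have hSle : (S : Subgroup G) ≤ Subgroup.centralizer ({w} : Set G) := fun a ha => by
      rw [Subgroup.mem_centralizer_singleton_iff, ← hzeq]
      exact congrArg Subtype.val (Subgroup.mem_center_iff.1 hzc ⟨a, ha⟩)
    rw [hCz] at hSle
    have hSw : (S : Subgroup G) = Subgroup.zpowers w := le_antisymm hSle hS
    obtain ⟨H, hH⟩ := Cfsg.Agent.S0219.result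
      ((even_iff_two_dvd.2 (h2 ▸ orderOf_dvd_natCard w))) S (by rw [hSw]; infer_instance)
    exact no_index_two hG H hH

/-- A self-centralising element of order three. -/
theorem of_card_three (hG : ¬ IsCyclic G) {w : G}
    (hc : Nat.card (Subgroup.centralizer ({w} : Set G)) = 3) :
    Nonempty (G ≃* alternatingGroup (Fin 5)) ∨
      Nonempty (G ≃* Matrix.ProjectiveSpecialLinearGroup (Fin 2) (ZMod 7)) := by
  have hw : w ≠ 1 := fun e => by
    have htop : Subgroup.centralizer ({1} : Set G) = ⊤ := by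
      ext g; simp [Subgroup.mem_centralizer_singleton_iff]
    rw [e, htop, Nat.card_congr Subgroup.topEquiv.toEquiv] at hc
    haveI : Fact (Nat.Prime 3) := ⟨Nat.prime_three⟩
    exact hG (isCyclic_of_prime_card hc)
  have ho : orderOf w = 3 :=
    ((Nat.prime_three.eq_one_or_self_of_dvd _ (hc ▸ orderOf_dvd_cent w)).resolve_left
      (fun h => hw (orderOf_eq_one_iff.1 h)))
  have hX : Subgroup.centralizer ({w} : Set G) = Subgroup.zpowers w :=
    (Subgroup.eq_of_le_of_card_ge (Subgroup.zpowers_le.2 (mem_cent_self w))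
      (by rw [hc, Nat.card_zpowers, ho])).symm
  have hC : Subgroup.centralizer (Subgroup.zpowers w : Set G) = Subgroup.zpowers w := by
    rw [Subgroup.zpowers_eq_closure, Subgroup.centralizer_closure, ← Subgroup.zpowers_eq_closure, hX]
  rcases Cfsg.Agent.S3331.result (Subgroup.zpowers w) (by rw [Nat.card_zpowers, ho]) hC with
    ⟨N, hN, hnil, hcop, hq⟩ | ⟨N, hN, -, -, ⟨e⟩⟩ | h
  · exfalso
    rcases eq_bot_or_eq_top hN with rfl | rfl
    · rcases hq with hq | ⟨⟨e⟩⟩
      · rw [Nat.card_congr QuotientGroup.quotientBot.toEquiv] at hq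
        haveI : Fact (Nat.Prime 3) := ⟨Nat.prime_three⟩
        exact hG (isCyclic_of_prime_card hq)
      · have e' : G ≃* Equiv.Perm (Fin 3) := QuotientGroup.quotientBot.symm.trans e
        have h6 : Nat.card G = 6 := by
          rw [Nat.card_congr e'.toEquiv, Nat.card_perm, Nat.card_fin]; rfl
        haveI : Fact (Nat.Prime 3) := ⟨Nat.prime_three⟩
        have hidx : (Subgroup.zpowers w).index = 2 := by
          have := (Subgroup.zpowers w).card_mul_index
          rw [Nat.card_zpowers, ho, h6] at this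
          omega
        exact no_index_two hG _ hidx
    · rw [Subgroup.card_top] at hcop
      have : 3 ∣ Nat.card G := ho ▸ orderOf_dvd_natCard w
      exact absurd (Nat.dvd_gcd this (dvd_refl 3)) (by rw [hcop.gcd_eq_one]; norm_num)
  · left
    rcases eq_bot_or_eq_top hN with rfl | rfl
    · exact ⟨QuotientGroup.quotientBot.symm.trans e⟩
    · exfalso
      have h1 : Nat.card (G ⧸ (⊤ : Subgroup G)) = 1 := Subgroup.index_top
      rw [Nat.card_congr e.toEquiv, nat_card_alternatingGroup, Nat.card_fin] at h1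
      norm_num [Nat.factorial] at h1
  · exact .inr h

omit [IsSimpleGroup G] in
/-- In a quasidihedral Sylow 2-subgroup the involutions and the elements of order four are large. -/
theorem qd_large {S : Sylow 2 G} (hS : Cfsg.IsQuasiDihedral (S : Subgroup G))
    (hno : ∀ H : Subgroup G, H.index ≠ 2) {w : G} (hw : w ∈ (S : Subgroup G))
    (ho : orderOf w = 2 ∨ orderOf w = 4) :
    8 ≤ Nat.card (Subgroup.centralizer ({w} : Set G)) := by
  obtain ⟨n₀, x₀, y₀, h₀⟩ := exists_isQDGen hS
  obtain ⟨T, Q, hT, hTS, hQS, ⟨eQ⟩⟩ := h₀.exists_four_quaternion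
  obtain ⟨n, x, y, c⟩ := exists_qdContext hS hT hTS hQS eQ
  obtain ⟨hzy, huw⟩ := c.fused_of_no_index_two hno
  have hn := c.gen.three_le
  -- elements conjugate to a power of `x` centralise eight elements
  have key : ∀ i : ℤ, IsConj w (x ^ i) → 8 ≤ Nat.card (Subgroup.centralizer ({w} : Set G)) := by
    intro i hc
    obtain ⟨g, hg⟩ := isConj_iff.1 hc
    have hmem : g⁻¹ * x * g ∈ Subgroup.centralizer ({w} : Set G) := by
      rw [Subgroup.mem_centralizer_singleton_iff]
      calc g⁻¹ * x * g * w = g⁻¹ * (x * (g * w * g⁻¹)) * g := by group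
        _ = g⁻¹ * (g * w * g⁻¹ * x) * g := by rw [hg, (Commute.self_zpow x i).eq]
        _ = w * (g⁻¹ * x * g) := by group
    have h1 : orderOf (g⁻¹ * x * g) = 2 ^ n := by
      rw [show g⁻¹ * x * g = MulAut.conj g⁻¹ x by simp, MulEquiv.orderOf_eq, c.gen.ox]
    calc 8 = 2 ^ 3 := by norm_num
      _ ≤ 2 ^ n := Nat.pow_le_pow_right two_pos hn
      _ ≤ _ := by
        rw [← h1, ← Nat.card_zpowers]
        exact Subgroup.card_le_of_le (Subgroup.zpowers_le.2 hmem)
  rcases ho with h2 | h4
  · rcases c.gen.mem_involution hw h2 with e | ⟨k, e⟩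
    · exact key _ (isConj_iff.2 ⟨1, by simpa using e⟩)
    · obtain ⟨j, hj⟩ := c.gen.exists_conj_zpow_mul_y (i := 2 * k) (i' := 0) ⟨-k, by ring⟩
      rw [zpow_zero, one_mul] at hj
      refine key _ (((isConj_iff.2 ⟨x ^ j, by rw [e]; exact hj⟩ : IsConj w y)).trans hzy.symm)
  · rcases c.gen.mem_order_four hw h4 with e | e | ⟨k, e⟩
    · exact key _ (isConj_iff.2 ⟨1, by simpa using e⟩)
    · exact key (-((2 : ℤ) ^ (n - 2))) (isConj_iff.2 ⟨1, by simp [e, zpow_neg]⟩)
    · obtain ⟨j, hj⟩ := c.gen.exists_conj_zpow_mul_y (i := 2 * k + 1) (i' := 1) ⟨-k, by ring⟩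
      rw [zpow_one] at hj
      refine key _ (((isConj_iff.2 ⟨x ^ j, by rw [e]; exact hj⟩ : IsConj w (x * y))).trans huw.symm)

/-- An involution with centraliser of order four. -/
theorem of_involution (hG : ¬ IsCyclic G) {w : G} (ho : orderOf w = 2)
    (hc : Nat.card (Subgroup.centralizer ({w} : Set G)) = 4) :
    Nonempty (G ≃* alternatingGroup (Fin 5)) := by
  haveI : Fact (Nat.Prime 2) := ⟨Nat.prime_two⟩
  set C := Subgroup.centralizer ({w} : Set G) with hC
  obtain ⟨S, hS⟩ := (IsPGroup.of_card (p := 2) (n := 2) (G := C) hc).exists_le_sylow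
  have hwS : w ∈ (S : Subgroup G) := hS (mem_cent_self w)
  have hCS : Nat.card (Subgroup.centralizer ({(⟨w, hwS⟩ : (S : Subgroup G))} : Set (S : Subgroup G))) = 4 := by
    rw [← hc]
    refine Nat.card_congr ⟨fun a => ⟨(a.1 : G), ?_⟩, fun a => ⟨⟨a.1, hS a.2⟩, ?_⟩,
      fun a => rfl, fun a => rfl⟩
    · exact Subgroup.mem_centralizer_singleton_iff.2
        (congrArg Subtype.val (Subgroup.mem_centralizer_singleton_iff.1 a.2))
    · exact Subgroup.mem_centralizer_singleton_iff.2
        (Subtype.ext (Subgroup.mem_centralizer_singleton_iff.1 a.2))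
  have hno := no_index_two hG
  have heven : Even (Nat.card G) := even_iff_two_dvd.2 (ho ▸ orderOf_dvd_natCard w)
  by_cases h4 : Nat.card (S : Subgroup G) = 4
  · have hSC : (S : Subgroup G) = C := (Subgroup.eq_of_le_of_card_ge hS (by rw [h4, hc])).symm
    by_cases hcyc : IsCyclic (S : Subgroup G)
    · obtain ⟨H, hH⟩ := Cfsg.Agent.S0219.result heven S hcyc
      exact absurd hH (hno H)
    · have hK : IsKleinFour ↥C := by
        rw [← hSC]
        exact ⟨h4, (not_isCyclic_iff_exponent_eq_prime Nat.prime_two (by rw [h4]; norm_num)).1 hcyc⟩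
      exact Cfsg.Agent.S3278.result w ho C le_rfl hK (by rw [← hC, Subgroup.relIndex_self]; norm_num) (by
        rw [Subgroup.subgroupOf_self]; infer_instance)
  · exfalso
    have hgt : 4 < Nat.card (S : Subgroup G) := by
      have := Subgroup.card_le_of_le hS
      omega
    rcases Cfsg.Agent.S3224.result S.isPGroup' ⟨w, hwS⟩
      (by rw [← Subgroup.orderOf_coe]; exact ho) hCS with ⟨m, ⟨e⟩⟩ | hqd | h
    · have hm : 2 ≤ m := by
        have h1 := Nat.card_congr e.toEquiv
        rcases m with _ | m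
        · rw [DihedralGroup.nat_card] at h1; omega
        · rw [DihedralGroup.nat_card] at h1; omega
      obtain ⟨n, x, y, -, hg⟩ := exists_isDihGen S.isPGroup' hm e
      have := isConj_central_card (S := S)
        (isConj_z hg (fun i => all_fused_of_no_index_two hg hno i) ho)
        (fun a ha => hg.z_comm ha)
      rw [hc] at this
      omega
    · have := qd_large hqd hno hwS (Or.inl ho)
      rw [hc] at this
      omega
    · exact h4 h

/-- A self-centralising element of order four. -/
theorem of_order_four (hG : ¬ IsCyclic G) {w : G} (ho : orderOf w = 4)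
    (hc : Nat.card (Subgroup.centralizer ({w} : Set G)) = 4) :
    ∃ τ, Hyp w τ := by
  haveI : Fact (Nat.Prime 2) := ⟨Nat.prime_two⟩
  have hCw : Subgroup.centralizer ({w} : Set G) = Subgroup.zpowers w :=
    (Subgroup.eq_of_le_of_card_ge (Subgroup.zpowers_le.2 (mem_cent_self w))
      (by rw [hc, Nat.card_zpowers, ho])).symm
  have hcent : ∀ g : G, g * w = w * g → g ∈ Subgroup.zpowers w := fun g hg =>
    hCw ▸ Subgroup.mem_centralizer_singleton_iff.2 hg
  obtain ⟨S, hS⟩ := (IsPGroup.of_card (p := 2) (n := 2) (G := Subgroup.zpowers w)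
    (by rw [Nat.card_zpowers, ho]; norm_num)).exists_le_sylow
  have hwS : w ∈ (S : Subgroup G) := hS (Subgroup.mem_zpowers w)
  set w' : (S : Subgroup G) := ⟨w, hwS⟩ with hw'
  have how' : orderOf w' = 4 := by rw [← Subgroup.orderOf_coe]; exact ho
  have hno := no_index_two hG
  have heven : Even (Nat.card G) :=
    even_iff_two_dvd.2 ((dvd_trans (by norm_num) (dvd_of_eq ho.symm)).trans (orderOf_dvd_natCard w))
  have h4 : Nat.card (S : Subgroup G) ≠ 4 := fun h4 => by
    have hSw : (S : Subgroup G) = Subgroup.zpowers w :=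
      (Subgroup.eq_of_le_of_card_ge hS (by rw [h4, Nat.card_zpowers, ho])).symm
    obtain ⟨H, hH⟩ := Cfsg.Agent.S0219.result heven S (by rw [hSw]; infer_instance)
    exact hno H hH
  obtain ⟨m, hm⟩ := IsPGroup.iff_card.1 S.isPGroup'
  have hm3 : 3 ≤ m := by
    have h1 : Nat.card (Subgroup.zpowers w) ≤ Nat.card (S : Subgroup G) :=
      Subgroup.card_le_of_le hS
    rw [Nat.card_zpowers, ho] at h1
    by_contra hlt
    interval_cases m <;> simp_all
  have hA : Nat.card (Subgroup.zpowers w') = 2 ^ 2 := by rw [Nat.card_zpowers, how']; norm_num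
  have hCA : Subgroup.centralizer (Subgroup.zpowers w' : Set (S : Subgroup G)) =
      Subgroup.zpowers w' := by
    refine le_antisymm (fun a ha => ?_) (fun a ha => ?_)
    · have h1 := Subgroup.mem_centralizer_iff.1 ha w' (Subgroup.mem_zpowers w')
      obtain ⟨i, hi⟩ := Subgroup.mem_zpowers_iff.1 (hcent (a : G) (congrArg Subtype.val h1).symm)
      exact Subgroup.mem_zpowers_iff.2 ⟨i, Subtype.ext (by simpa using hi)⟩
    · rw [Subgroup.mem_centralizer_iff]
      intro b hb
      obtain ⟨i, rfl⟩ := Subgroup.mem_zpowers_iff.1 ha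
      obtain ⟨j, rfl⟩ := Subgroup.mem_zpowers_iff.1 hb
      exact (Commute.zpow_zpow_self w' j i).eq
  have hclass := Cfsg.Agent.S0112.result m hm (Subgroup.zpowers w') hA hCA
  have hklein := (Cfsg.Agent.S0115.result m hm3 hm).1 hclass
  have hab : Nat.card (Abelianization (S : Subgroup G)) = 4 := hklein.card_four
  have hexp : ∀ a : Abelianization (S : Subgroup G), a ^ 2 = 1 := fun a => by
    rw [pow_two]
    exact @IsKleinFour.mul_self _ _ hklein a
  rcases Cfsg.Agent.S4399.result S.isPGroup' hab hexp with h |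
    ⟨k, ⟨e⟩⟩ | ⟨k, hk, a, b, ha, hb, hr⟩ | ⟨k, ⟨e⟩⟩
  · exact absurd h h4
  · obtain ⟨n, x, y, hmn, hg⟩ := exists_isDihGen S.isPGroup'
      (Nat.le_self_pow (by omega) 2) e
    have hnk : n = k + 2 := (Nat.pow_right_injective le_rfl hmn).symm
    obtain ⟨i, hi⟩ := hg.mem_cases hwS
    rcases hi with hi | hi
    · have hxw : x ∈ Subgroup.zpowers w := hcent x (by rw [hi, (Commute.self_zpow x i).eq])
      have hn2 : n = 2 := by
        have h1 : 2 ^ n ≤ 4 := by
          rw [← hg.ox, ← ho, ← Nat.card_zpowers w]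
          rw [← Nat.card_zpowers x]
          exact Subgroup.card_le_of_le (Subgroup.zpowers_le.2 hxw)
        have h2 : n ≤ 2 := by
          by_contra hn
          have : 2 ^ 3 ≤ 2 ^ n := Nat.pow_le_pow_right two_pos (by omega)
          omega
        omega
      subst hn2
      have hwy : Hyp w y := by
        refine ⟨⟨S, hg.one_le, hg.card, hwS, hg.y_mem, by rw [ho]; norm_num, hg.oy, ?_, fun hy => ?_⟩,
          hcent, ?_⟩
        · rw [hi, ← conj_zpow, hg.rel, inv_zpow]
        · exact hg.y_not_mem (Subgroup.zpowers_le.2 (hi ▸ Subgroup.zpow_mem_zpowers x i) hy)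
        · have hg' : IsDihGen (S : Subgroup G) 2 w y := ⟨hg.one_le, hg.card, hwS, hg.y_mem,
            by rw [ho]; norm_num, hg.oy, by rw [hi, ← conj_zpow, hg.rel, inv_zpow],
            fun hy => hg.y_not_mem (Subgroup.zpowers_le.2 (hi ▸ Subgroup.zpow_mem_zpowers x i) hy)⟩
          exact fun u hu => (isConj_z hg' (fun j => all_fused_of_no_index_two hg' hno j) hu).symm
      exact ⟨y, hwy⟩
    · rw [hi, hg.orderOf_refl] at ho
      omega
  · exfalso
    have hqd : Cfsg.IsQuasiDihedral (S : Subgroup G) :=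
      ⟨k + 3, by omega, hk, a, b, ha, hb, hr⟩
    have := qd_large hqd hno hwS (Or.inr ho)
    omega
  · exfalso
    have h1 := Cfsg.Agent.S0201.result S k e (fun N hN hodd => (eq_bot_or_eq_top hN).resolve_right
      (fun e1 => by
        rw [e1, Subgroup.card_top] at hodd
        exact Nat.not_even_iff_odd.2 hodd heven))
    rcases eq_bot_or_eq_top (inferInstance : (Subgroup.center G).Normal) with e1 | e1
    · rw [e1, Subgroup.card_bot] at h1
      omega
    · exact commutative_false hG fun a b =>
        (Subgroup.mem_center_iff.1 (e1 ▸ Subgroup.mem_top b) a)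

end CfsgLib.CentFour
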